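import Cfsg.Agent.H802.TE.Defs

/-!
# S5261 [TE-R0]: an essential subgroup `E ≤ R` is `R`
-/

set_option autoImplicit false
set_option linter.unusedSectionVars false

namespace Cfsg.Agent.H128.TE

open Cfsg Cfsg.FusionSystem Cfsg.Agent.H756.PU
open Cfsg.Agent.H765.D3 Cfsg.Agent.H765.D3.Sy Cfsg.Agent.H802.TE
open Cfsg.Agent.Hex.Defs (sh cr nm tr)
open scoped commutatorElement

universe u

theorem card_sq_le_aux {p : ℕ} [Fact p.Prime] {V : Type*} [AddCommGroup V] [Module (ZMod p) V] [Finite V]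
    (f : V →+ V →+ ZMod p) (D : Submodule (ZMod p) V) (hD : ∀ x ∈ D, ∀ y ∈ D, f x y = 0)
    (hnd : ∀ x ∈ D, (∀ y, f x y = 0) → x = 0) : Nat.card D ^ 2 ≤ Nat.card V := by
  let g : D →+ Module.Dual (ZMod p) V :=
    { toFun := fun x => (f x.1).toZModLinearMap p
      map_zero' := by
        ext y
        simp
      map_add' := fun x y => by
        ext z
        simp }
  let g' : D →ₗ[ZMod p] D.dualAnnihilator := LinearMap.codRestrict _ (g.toZModLinearMap p) (by
    intro x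
    rw [Submodule.mem_dualAnnihilator]
    intro y hy
    exact hD x.1 x.2 y hy)
  have hg' : Function.Injective g' := by
    rw [injective_iff_map_eq_zero]
    intro x hx
    apply Subtype.ext
    apply hnd x.1 x.2
    intro y
    have h1 := congrArg (fun z : D.dualAnnihilator => (z : Module.Dual (ZMod p) V) y) hx
    exact h1
  have h1 := LinearMap.finrank_le_finrank_of_injective hg'
  have h2 := Subspace.finrank_add_finrank_dualAnnihilator_eq D
  have h3 : Nat.card V = p ^ Module.finrank (ZMod p) V := by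
    rw [Module.natCard_eq_pow_finrank (K := ZMod p), Nat.card_zmod]
  have h4 : Nat.card D = p ^ Module.finrank (ZMod p) D := by
    rw [Module.natCard_eq_pow_finrank (K := ZMod p), Nat.card_zmod]
  rw [h3, h4, ← pow_mul]
  exact Nat.pow_le_pow_right (Nat.Prime.pos Fact.out) (by omega)

/-- totally isotropic subgroups: `|D|² ≤ |V|` if the form is nondegenerate (on `D`) -/
theorem card_sq_le_of_isotropic {V : Type*} [AddCommGroup V] [Finite V] {p : ℕ} [Fact p.Prime]
    (hp : ∀ v : V, p • v = 0) (f : V →+ V →+ ZMod p) (D : AddSubgroup V)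
    (hD : ∀ x ∈ D, ∀ y ∈ D, f x y = 0) (hnd : ∀ x ∈ D, (∀ y, f x y = 0) → x = 0) :
    Nat.card D ^ 2 ≤ Nat.card V := by
  let _ : Module (ZMod p) V := AddCommGroup.zmodModule hp
  exact card_sq_le_aux f (AddSubgroup.toZModSubmodule p D) hD hnd

section

variable {F K : Type u} [Field F] [Field K] [Algebra F K]

theorem card_lt [Finite K] (φ : K ≃ₐ[F] K) [Cub φ] : Nat.card F < Nat.card K := by
  have hinj : Function.Injective (algebraMap F K) := (algebraMap F K).injective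
  have hfin : Finite F := Finite.of_injective _ hinj
  refine lt_of_le_of_ne (Nat.card_le_card_of_injective _ hinj) fun h => ?_
  obtain ⟨t, ht⟩ := Cub.ne (φ := φ)
  have hs : Function.Surjective (algebraMap F K) := by
    have := (Nat.bijective_iff_injective_and_card (algebraMap F K)).2 ⟨hinj, h⟩
    exact this.2
  obtain ⟨s, rfl⟩ := hs t
  exact ht (φ.commutes s)

variable {φ : K ≃ₐ[F] K} [Cub φ]

theorem comm_R {x y : Sy φ} (hx : x ∈ R φ) (hy : y ∈ R φ) :
    ⁅x, y⁆ = u2 φ (tr φ (x.x1 * y.x3) - tr φ (y.x1 * x.x3)) := by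
  obtain ⟨hx6, hx5⟩ := hx
  obtain ⟨hy6, hy5⟩ := hy
  apply comm_eq
  ext
  · simp only [mul_def, u2]; ring
  · simp only [mul_def, u2]; ring
  · simp only [mul_def, u2, hx5, hy5, hx6, hy6]; cub
  · simp only [mul_def, u2, hx5, hy5, hx6, hy6]; cub
  · simp only [mul_def, u2, hx5, hy5, hx6, hy6]; apply (algebraMap F K).injective; cub
  · simp only [mul_def, u2, hx5, hy5, hx6, hy6]; apply (algebraMap F K).injective; cub

/-- `U2` -/
def U2 (φ : K ≃ₐ[F] K) [Cub φ] : Subgroup (Sy φ) where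
  carrier := {x | x.x1 = 0 ∧ x.x6 = 0 ∧ x.x5 = 0 ∧ x.x3 = 0 ∧ x.x4 = 0}
  one_mem' := ⟨rfl, rfl, rfl, rfl, rfl⟩
  mul_mem' {x y} hx hy := by
    simp only [Set.mem_ofPred_eq] at hx hy ⊢
    obtain ⟨h1, h2, h3, h4, h5⟩ := hx
    obtain ⟨h1', h2', h3', h4', h5'⟩ := hy
    rw [mul_x1, mul_x6, mul_x5, mul_x3, mul_x4, h1, h2, h3, h4, h5, h1', h2', h3', h4', h5']
    simp [cr, tr_zero]
  inv_mem' {x} hx := by
    simp only [Set.mem_ofPred_eq] at hx ⊢
    obtain ⟨h1, h2, h3, h4, h5⟩ := hx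
    rw [inv_x1, inv_x6, inv_x5, inv_x3, inv_x4, h1, h2, h3, h4, h5]
    simp [cr, tr_zero]

theorem u2_mem_U2 (t : F) : u2 φ t ∈ U2 φ := ⟨rfl, rfl, rfl, rfl, rfl⟩

theorem eq_u2 {x : Sy φ} (h : x ∈ U2 φ) : x = u2 φ x.x2 := by
  obtain ⟨h1, h2, h3, h4, h5⟩ := h
  ext
  · exact h1
  · exact h2
  · exact h3
  · exact h4
  · rfl
  · exact h5

theorem card_U2 : Nat.card (U2 φ) = Nat.card F :=
  Nat.card_congr ⟨fun x => x.1.x2, fun w => ⟨u2 φ w, u2_mem_U2 w⟩, fun x => Subtype.ext (eq_u2 x.2).symm, fun _ => rfl⟩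

theorem card_R [Finite K] [Finite F] : Nat.card (R φ) = Nat.card K ^ 2 * Nat.card F ^ 2 := by
  rw [Nat.card_congr (β := K × K × F × F) ⟨fun x => (x.1.x1, x.1.x3, x.1.x2, x.1.x4),
    fun w => ⟨⟨w.1, 0, 0, w.2.1, w.2.2.1, w.2.2.2⟩, rfl, rfl⟩,
    fun x => ?_, fun _ => rfl⟩, Nat.card_prod, Nat.card_prod, Nat.card_prod]
  · ring
  obtain ⟨x, h1, h2⟩ := x
  apply Subtype.ext
  ext
  exacts [rfl, h1.symm, h2.symm, rfl, rfl, rfl]

/-- the image of `E ≤ R` in `R/Z2 = K × K` -/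
def img (E : Subgroup (Sy φ)) (hE : E ≤ R φ) : AddSubgroup (K × K) where
  carrier := {v | ∃ x ∈ E, x.x1 = v.1 ∧ x.x3 = v.2}
  zero_mem' := ⟨1, E.one_mem, rfl, rfl⟩
  add_mem' := by
    rintro v w ⟨x, hx, h1, h2⟩ ⟨y, hy, h3, h4⟩
    refine ⟨x * y, E.mul_mem hx hy, ?_, ?_⟩
    · rw [mul_x1, h1, h3]; rfl
    · rw [mul_x3, (hE hy).1, (hE hy).2, cr_zero_right, zero_smul, add_zero, add_zero, h2, h4]; rfl
  neg_mem' := by
    rintro v ⟨x, hx, h1, h2⟩
    refine ⟨x⁻¹, E.inv_mem hx, ?_, ?_⟩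
    · rw [inv_x1, h1]; rfl
    · rw [inv_x3, (hE hx).1, (hE hx).2, cr_zero_right, zero_smul, add_zero, sub_zero, h2]; rfl

theorem card_le_img [Finite K] [Finite F] (E : Subgroup (Sy φ)) (hE : E ≤ R φ) :
    Nat.card E ≤ Nat.card (img E hE) * Nat.card F ^ 2 := by
  have h := Nat.card_le_card_of_injective
    (fun x : E => ((⟨(x.1.x1, x.1.x3), ⟨x.1, x.2, rfl, rfl⟩⟩ : img E hE), x.1.x2, x.1.x4)) (by
      intro x y hxy
      have h1 : x.1.x1 = y.1.x1 := congrArg (fun z : ↥(img E hE) × F × F => (z.1 : K × K).1) hxy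
      have h2 : x.1.x3 = y.1.x3 := congrArg (fun z : ↥(img E hE) × F × F => (z.1 : K × K).2) hxy
      have h3 : x.1.x2 = y.1.x2 := congrArg (fun z : ↥(img E hE) × F × F => z.2.1) hxy
      have h4 : x.1.x4 = y.1.x4 := congrArg (fun z : ↥(img E hE) × F × F => z.2.2) hxy
      apply Subtype.ext
      ext
      exacts [h1, (hE x.2).1.trans (hE y.2).1.symm, (hE x.2).2.trans (hE y.2).2.symm, h2, h3, h4])
  rw [Nat.card_prod, Nat.card_prod] at h
  rwa [sq]

end

theorem stR0 (hphi : StPhi.{u}) (hp2 : StP2.{u}) : StR0.{u} := by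
  intro F K _ _ _ _ _ φ _ p _ E Γ hEss hE
  have : Fact p.Prime := ⟨hEss.pp⟩
  have hCF : CharP F p := (Algebra.charP_iff F K p).2 inferInstance
  have hS : Finite (Sy φ) := inferInstance
  have hEp : IsPGroup p E := by
    have h1 : IsPGroup p (⊤ : Subgroup (Sy φ)) := hEss.pgr
    exact h1.to_le le_top
  obtain ⟨hPE, hcomE, -, -, -, -⟩ := hphi E p hEss.pp inferInstance hEp
  have hZ2 : Z2 φ ≤ E := by
    intro x hx
    refine hEss.cent x trivial fun e he => ?_
    have h1 : ⁅e, x⁆ = 1 := by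
      rw [comm_Z2 hx, (hE he).1, zero_mul]; rfl
    exact (commutatorElement_eq_one_iff_mul_comm.1 h1).symm
  have hU2 : U2 φ ≤ E := fun x hx => hZ2 ⟨hx.1, hx.2.1, hx.2.2.1, hx.2.2.2.1⟩
  have hcomRE : Com (R φ) E (U2 φ) := by
    intro a ha m hm
    have := comm_R ha (hE hm)
    rw [commutatorElement_def] at this
    rw [this]
    exact u2_mem_U2 _
  have hRN : R φ ≤ normalizerIn ⊤ E := by
    have key : ∀ r ∈ R φ, ∀ x ∈ E, r * x * r⁻¹ ∈ E := by
      intro r hr x hx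
      have h1 := E.mul_mem (hU2 (hcomRE r hr x hx)) hx
      rwa [inv_mul_cancel_right] at h1
    intro r hr
    refine ⟨trivial, ?_⟩
    show r ∈ Subgroup.normalizer (E : Set (Sy φ))
    rw [Subgroup.mem_normalizer_iff]
    intro x
    refine ⟨key r hr x, fun hx => ?_⟩
    have h1 := key r⁻¹ ((R φ).inv_mem hr) _ hx
    have h2 : r⁻¹ * (r * x * r⁻¹) * r⁻¹⁻¹ = x := by group
    rwa [h2] at h1
  by_contra hne
  have hRE : ¬ R φ ≤ E := fun h => hne (le_antisymm hE h)
  have hin := hp2 hEss (R φ) (R φ) (U2 φ) (U2 φ) (U2 φ ⊓ Phi E) (U2 φ ⊓ Phi E) hRN hRN hRE hU2 hU2 hcomRE hcomRE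
    inf_le_right inf_le_right
  rw [← sq, Nat.pow_le_pow_iff_left two_ne_zero] at hin
  -- `|R : E| ≤ q`
  have hW : (U2 φ ⊓ Phi E).relIndex (U2 φ) ≤ Nat.card F := by
    rw [← card_U2 (φ := φ)]
    exact Nat.le_of_dvd Nat.card_pos (Subgroup.relIndex_dvd_card _ _)
  have hmul : Nat.card E * E.relIndex (R φ) = Nat.card (R φ) := by
    have h1 := Subgroup.card_mul_index (E.subgroupOf (R φ))
    rwa [Nat.card_congr (Subgroup.subgroupOfEquivOfLe hE).toEquiv] at h1
  have h1lt : 1 < E.relIndex (R φ) := by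
    have h0 : E.relIndex (R φ) ≠ 0 := by
      intro h0
      rw [h0, mul_zero] at hmul
      exact (Nat.card_pos (α := R φ)).ne hmul
    have h1 : E.relIndex (R φ) ≠ 1 := fun h => hRE (Subgroup.relIndex_eq_one.1 h)
    omega
  -- some `u2 t` is not in `Φ(E)`
  obtain ⟨x, hx, hxP⟩ : ∃ x ∈ U2 φ, x ∉ Phi E := by
    by_contra hcon
    push Not at hcon
    have h1 : (U2 φ ⊓ Phi E).relIndex (U2 φ) = 1 :=
      Subgroup.relIndex_eq_one.2 (le_inf le_rfl hcon)
    omega
  let _ := ZMod.algebra F p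
  let L : AddSubgroup F :=
    { carrier := {t | u2 φ t ∈ Phi E}
      zero_mem' := (Phi E).one_mem
      add_mem' := fun {a b} ha hb => by
        show u2 φ (a + b) ∈ Phi E
        rw [u2_add]
        exact (Phi E).mul_mem ha hb
      neg_mem' := fun {a} ha => by
        show u2 φ (-a) ∈ Phi E
        have h1 : u2 φ (-a) = (u2 φ a)⁻¹ := by
          rw [eq_inv_iff_mul_eq_one, ← u2_add, neg_add_cancel]
          rfl
        rw [h1]
        exact (Phi E).inv_mem ha }
  have hxL : x.x2 ∉ AddSubgroup.toZModSubmodule p L := by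
    intro h
    have h1 : u2 φ x.x2 ∈ Phi E := h
    rw [← eq_u2 hx] at h1
    exact hxP h1
  obtain ⟨l, hl, hlL⟩ := Submodule.exists_le_ker_of_notMem hxL
  have hl0 : ∃ t, l t ≠ 0 := ⟨x.x2, hl⟩
  let f : K × K →+ K × K →+ ZMod p :=
    AddMonoidHom.mk' (fun v => AddMonoidHom.mk' (fun w => l (tr φ (v.1 * w.2) - tr φ (w.1 * v.2))) (by
      intro a b
      simp only [Prod.fst_add, Prod.snd_add, mul_add, add_mul, tr_add, map_add, map_sub]
      ring)) (by
      intro a b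
      ext w
      simp only [Prod.fst_add, Prod.snd_add, mul_add, add_mul, tr_add, map_add, map_sub, AddMonoidHom.mk'_apply,
        AddMonoidHom.add_apply]
      ring)
  have hfa : ∀ v w, f v w = l (tr φ (v.1 * w.2) - tr φ (w.1 * v.2)) := fun _ _ => rfl
  have hpV : ∀ v : K × K, p • v = 0 := by
    rintro ⟨a, b⟩
    simp
  have hiso := card_sq_le_of_isotropic hpV f (img E hE) (by
    rintro v ⟨x, hx, h1, h2⟩ w ⟨y, hy, h3, h4⟩
    rw [hfa, ← h1, ← h2, ← h3, ← h4]
    have h5 := hcomE x hx y hy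
    have h6 := comm_R (hE hx) (hE hy)
    rw [commutatorElement_def] at h6
    rw [h6] at h5
    exact hlL h5) (by
    obtain ⟨t, ht⟩ := hl0
    have key : ∀ a : K, (∀ b : K, l (tr φ (a * b)) = 0) → a = 0 := by
      intro a ha
      by_contra ha0
      obtain ⟨s, hs⟩ := exists_tr_ne φ
      apply ht
      have h1 := ha (a⁻¹ * ((t / tr φ s) • s))
      rwa [mul_inv_cancel_left₀ ha0, tr_smul, div_mul_cancel₀ _ hs] at h1
    rintro ⟨a, b⟩ - h
    have h1 : a = 0 := key a fun c => by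
      have := h (0, c)
      rw [hfa] at this
      simpa [tr_zero] using this
    have h2 : b = 0 := key b fun c => by
      have := h (c, 0)
      rw [hfa] at this
      simp only [mul_zero, tr_zero, zero_sub, map_neg, neg_eq_zero] at this
      rwa [mul_comm]
    rw [h1, h2]
    rfl)
  rw [Nat.card_prod, ← sq, Nat.pow_le_pow_iff_left two_ne_zero] at hiso
  have hcE := card_le_img E hE
  have hlt := card_lt φ
  rw [card_R] at hmul
  have hFpos : 0 < Nat.card F := Nat.card_pos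
  have hKpos : 0 < Nat.card K := Nat.card_pos
  -- numbers
  have h1 : Nat.card K ^ 2 * Nat.card F ^ 2 ≤ (Nat.card K * Nat.card F ^ 2) * Nat.card F := by
    rw [← hmul]
    exact Nat.mul_le_mul (hcE.trans (Nat.mul_le_mul_right _ hiso)) (hin.trans hW)
  have h2 : Nat.card K ≤ Nat.card F := by
    have h3 : (Nat.card K * Nat.card F ^ 2) * Nat.card K ≤ (Nat.card K * Nat.card F ^ 2) * Nat.card F := by
      calc (Nat.card K * Nat.card F ^ 2) * Nat.card K = Nat.card K ^ 2 * Nat.card F ^ 2 := by ring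
        _ ≤ _ := h1
    exact Nat.le_of_mul_le_mul_left h3 (by positivity)
  omega

end Cfsg.Agent.H128.TE
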